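import Groth.Agent.DualLib.GorRing
import Groth.Agent.Disc12.GorensteinFibre

/-! Invariants of a finite group of invertible order in an algebra with an invariant perfect
functional form a Gorenstein ring. -/

set_option autoImplicit false
set_option backward.isDefEq.respectTransparency false
set_option linter.style.haveILetI false

universe u

open TensorProduct

namespace Groth.Agent.InvGor15

variable {S P : Type u} [CommRing S] [CommRing P] [Algebra S P]
  {G : Type u} [Group G] [Fintype G] [MulSemiringAction G P] [SMulCommClass G S P]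

/-- The Reynolds projection onto the invariants. -/
theorem exists_reynolds (hN : IsUnit ((Fintype.card G : ℕ) : P)) :
    ∃ R : P →ₗ[S] FixedPoints.subalgebra S P G,
      (∀ b : FixedPoints.subalgebra S P G, R b = b) ∧
      (∀ (b : FixedPoints.subalgebra S P G) (x : P), R ((b : P) * x) = b * R x) ∧
      ∀ (ω : P →ₗ[S] S), (∀ (g : G) (x : P), ω (g • x) = ω x) → ∀ x, ω ((R x : FixedPoints.subalgebra S P G) : P) = ω x := by
  obtain ⟨u, hu⟩ := hN.exists_left_inv
  have hug : ∀ g : G, g • u = u := fun g => hN.mul_left_injective (by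
    have h := congrArg (fun z => g • z) hu
    simp only [smul_mul', smul_one] at h
    rw [show g • ((Fintype.card G : ℕ) : P) = ((Fintype.card G : ℕ) : P) from
      map_natCast (MulSemiringAction.toRingHom G P g) _] at h
    exact h.trans hu.symm)
  have hmem : ∀ (x : P) (g : G), g • (u * ∑ h : G, h • x) = u * ∑ h : G, h • x := by
    intro x g
    rw [smul_mul', hug, Finset.smul_sum]
    congr 1
    exact Fintype.sum_equiv (Equiv.mulLeft g) _ _ fun h => smul_smul g h x
  refine ⟨{ toFun := fun x => ⟨u * ∑ h : G, h • x, hmem x⟩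
            map_add' := fun x y => Subtype.ext (by simp [smul_add, Finset.sum_add_distrib, mul_add])
            map_smul' := fun s x => Subtype.ext (by
              show u * ∑ h : G, h • (s • x) = s • (u * ∑ h : G, h • x)
              rw [← mul_smul_comm, Finset.smul_sum]
              exact congrArg (u * ·) (Finset.sum_congr rfl fun h _ => smul_comm h s x)) }, ?_, ?_, ?_⟩
  · intro b
    refine Subtype.ext ?_
    show u * ∑ h : G, h • (b : P) = b
    rw [Finset.sum_congr rfl fun h _ => b.2 h, Finset.sum_const, Finset.card_univ, nsmul_eq_mul, ← mul_assoc, hu,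
      one_mul]
  · intro b x
    refine Subtype.ext ?_
    show u * ∑ h : G, h • ((b : P) * x) = (b : P) * (u * ∑ h : G, h • x)
    rw [Finset.sum_congr rfl fun h _ => (by rw [smul_mul', b.2 h] : h • ((b : P) * x) = (b : P) * h • x),
      ← Finset.mul_sum, mul_left_comm]
  · intro ω hω x
    show ω (u * ∑ h : G, h • x) = ω x
    rw [Finset.mul_sum, map_sum, Finset.sum_congr rfl fun h _ => (by
      rw [show u * h • x = h • (u * x) by rw [smul_mul', hug], hω] : ω (u * h • x) = ω (u * x)),
      Finset.sum_const, Finset.card_univ, ← map_nsmul, nsmul_eq_mul, ← mul_assoc, mul_comm _ u, hu, one_mul]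

/-- **Invariants are Gorenstein** if an invariant functional generates the dual module. -/
theorem gorensteinRing_fixed [IsNoetherianRing S] [Module.Free S P] [Module.Finite S P]
    (hS : _root_.LocCoh.IsGorensteinRing S)
    (hN : IsUnit ((Fintype.card G : ℕ) : P)) (ω : P →ₗ[S] S) (hinv : ∀ (g : G) (x : P), ω (g • x) = ω x)
    (hgen : ∀ l : P →ₗ[S] S, ∃ p : P, ∀ x, l x = ω (p * x)) :
    _root_.LocCoh.IsGorensteinRing (FixedPoints.subalgebra S P G) := by
  set B := FixedPoints.subalgebra S P G with hB
  obtain ⟨R, hR1, hR2, hR3⟩ := exists_reynolds (S := S) hN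
  haveI : Module.Finite S B := Module.Finite.of_surjective R fun b => ⟨b, hR1 b⟩
  haveI : Module.Flat S B := Module.Flat.of_retract B.val.toLinearMap R (LinearMap.ext hR1)
  haveI : IsNoetherianRing B := isNoetherian_of_tower S (inferInstance : IsNoetherian S B)
  refine DualLib.GorRing.gorensteinRing_of_fibres hS fun p _ => ?_
  haveI : IsArtinianRing (p.Fiber B) := IsArtinianRing.of_finite p.ResidueField _
  haveI : IsNoetherianRing (p.Fiber B) := IsNoetherianRing.of_finite p.ResidueField _
  refine { isGorensteinLocalRing_localization := fun q _ => ?_ }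
  let l : Disc.Omega S B := ⟨ω ∘ₗ B.val.toLinearMap⟩
  refine Disc12.gorenstein_localization_of_functional q (Disc12.fibFun p l) (u := 1)
    (fun h => (inferInstance : q.IsPrime).ne_top ((Ideal.eq_top_iff_one q).2 h)) fun y hy => ?_
  rw [one_mul]
  let ι := B.val.toLinearMap.baseChange p.ResidueField
  have hretract : ∀ z, R.baseChange p.ResidueField (ι z) = z := fun z => by
    have := LinearMap.congr_fun ((LinearMap.baseChange_comp (A := p.ResidueField) B.val.toLinearMap R).symm.trans
      (by rw [show R ∘ₗ B.val.toLinearMap = LinearMap.id from LinearMap.ext hR1, LinearMap.baseChange_id])) z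
    exact this
  rw [← hretract y]
  suffices ι y = 0 by rw [this, map_zero]
  refine Disc12.eq_zero_of_forall_fibFun p _ fun x => ?_
  obtain ⟨a, ha⟩ := hgen (x.toLinearMap ∘ₗ B.val.toLinearMap ∘ₗ R)
  have hx : x.toLinearMap ∘ₗ B.val.toLinearMap = ((R a) • l).toLinearMap := by
    refine LinearMap.ext fun b => ?_
    have h1 := ha (b : P)
    simp only [LinearMap.comp_apply] at h1
    rw [hR1 b] at h1
    show x.toLinearMap (b : P) = ω (((R a * b : B)) : P)
    rw [show R a * b = R ((b : P) * a) by rw [hR2, mul_comm], hR3 ω hinv, mul_comm]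
    exact h1
  have h2 : ∀ z : p.Fiber B, Disc12.fibFun p x (ι z) = Disc12.fibFun p ((R a) • l) z := by
    intro z
    induction z using TensorProduct.induction_on with
    | zero => simp
    | tmul κ b =>
      rw [show ι (κ ⊗ₜ b) = κ ⊗ₜ[S] (b : P) from rfl, Disc12.fibFun_tmul, Disc12.fibFun_tmul, ← hx]
      rfl
    | add v w hv hw => rw [map_add, map_add, map_add, hv, hw]
  rw [h2, Disc12.fibFun_smul, mul_comm]
  exact hy _

end Groth.Agent.InvGor15
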