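import Groth.Agent.SegreDim.Hsop
import Mathlib.RingTheory.MvPolynomial.Homogeneous
import Mathlib.RingTheory.MvPolynomial.WeightedHomogeneous
import Mathlib.RingTheory.MvPolynomial.Ideal

/-! The degree grading of a polynomial ring indexed by the integers, and homogeneous invariant
systems of parameters for linear finite group actions. -/

set_option autoImplicit false
set_option backward.isDefEq.respectTransparency false
set_option linter.style.haveILetI false

universe u

open MvPolynomial DirectSum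

namespace Groth.Agent.InvGor15

variable (k : Type u) [Field k] (n : ℕ)

/-- The degree grading indexed by `ℤ`. -/
noncomputable abbrev deg : ℤ → Submodule k (MvPolynomial (Fin n) k) :=
  weightedHomogeneousSubmodule k (fun _ : Fin n => (1 : ℤ))

noncomputable instance gradedDeg : GradedAlgebra (deg k n) := weightedGradedAlgebra k _

variable {k n}

theorem weight_eq (d : Fin n →₀ ℕ) :
    Finsupp.weight (fun _ : Fin n => (1 : ℤ)) d = ((Finsupp.weight (1 : Fin n → ℕ) d : ℕ) : ℤ) := by
  simp [Finsupp.weight_apply, Finsupp.sum]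

theorem mem_deg_iff {p : MvPolynomial (Fin n) k} {m : ℕ} : p ∈ deg k n (m : ℤ) ↔ p.IsHomogeneous m := by
  rw [mem_weightedHomogeneousSubmodule]
  refine ⟨fun h d hd => ?_, fun h d hd => ?_⟩
  · have := h hd
    rw [weight_eq] at this
    exact_mod_cast this
  · rw [weight_eq, h hd]

theorem deg_neg (m : ℤ) (hm : m < 0) : deg k n m = ⊥ := by
  refine (Submodule.eq_bot_iff _).2 fun p hp => MvPolynomial.ext _ _ fun d => ?_
  rw [coeff_zero]
  by_contra hd
  have := ((mem_weightedHomogeneousSubmodule k _ _ p).1 hp) hd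
  rw [weight_eq] at this
  omega

theorem deg_zero : deg k n 0 = Submodule.span k {(1 : MvPolynomial (Fin n) k)} := by
  refine le_antisymm (fun p hp => Submodule.mem_span_singleton.2 ⟨p.coeff 0, ?_⟩) ?_
  · have h : p.IsHomogeneous 0 := mem_deg_iff.1 (by simpa using hp)
    rw [MvPolynomial.smul_eq_C_mul, mul_one]
    exact (h.totalDegree_le.antisymm (Nat.zero_le _) |> totalDegree_eq_zero_iff_eq_C.1).symm
  · rw [Submodule.span_singleton_le_iff_mem]
    exact_mod_cast (mem_deg_iff (m := 0)).2 (isHomogeneous_one _ _)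

theorem irr_eq_span_X : SegreDim.irr (deg k n) = Ideal.span (Set.range (X : Fin n → MvPolynomial (Fin n) k)) := by
  refine le_antisymm (Ideal.span_le.2 ?_) (Ideal.span_le.2 ?_)
  · intro p hp
    simp only [Set.mem_iUnion, Set.mem_Ioi, SetLike.mem_coe] at hp
    obtain ⟨m, hm, hp⟩ := hp
    show p ∈ Ideal.span (Set.range X)
    rw [← Set.image_univ, MvPolynomial.mem_ideal_span_X_image]
    intro d hd
    by_contra h0
    push_neg at h0
    have hd0 : d = 0 := Finsupp.ext fun i => h0 i (Set.mem_univ i)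
    subst hd0
    rw [MvPolynomial.mem_support_iff] at hd
    have := ((mem_weightedHomogeneousSubmodule k _ _ p).1 hp) hd
    simp at this
    omega
  · rintro _ ⟨i, rfl⟩
    exact SegreDim.mem_irr_of_mem _ (n := 1) one_pos (by exact_mod_cast (mem_deg_iff (m := 1)).2 (isHomogeneous_X k i))

variable {G : Type u} [Group G] [MulSemiringAction G (MvPolynomial (Fin n) k)]
  (ρ : G → Matrix (Fin n) (Fin n) k)
  (hC : ∀ (g : G) (c : k), g • (C c : MvPolynomial (Fin n) k) = C c)
  (hX : ∀ (g : G) (i : Fin n), g • (X i : MvPolynomial (Fin n) k) = ∑ j : Fin n, ρ g j i • X j)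

include hC hX in
theorem smul_mem_deg (g : G) {m : ℤ} {p : MvPolynomial (Fin n) k} (hp : p ∈ deg k n m) : g • p ∈ deg k n m := by
  rcases lt_or_ge m 0 with hm | hm
  · rw [deg_neg m hm, Submodule.mem_bot] at hp ⊢
    rw [hp, smul_zero]
  obtain ⟨m, rfl⟩ := Int.eq_ofNat_of_zero_le hm
  rw [mem_deg_iff] at hp ⊢
  have hf : MulSemiringAction.toRingHom G (MvPolynomial (Fin n) k) g =
      (aeval (fun i => ∑ j : Fin n, ρ g j i • (X j : MvPolynomial (Fin n) k))).toRingHom := by
    refine MvPolynomial.ringHom_ext (fun c => ?_) (fun i => ?_)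
    · show g • (C c : MvPolynomial (Fin n) k) = _
      simp [hC, algebraMap_eq]
    · show g • (X i : MvPolynomial (Fin n) k) = _
      simp [hX]
  rw [show g • p = MulSemiringAction.toRingHom G _ g p from rfl, hf]
  have h2 := hp.aeval (n := 1) (fun i => ∑ j : Fin n, ρ g j i • (X j : MvPolynomial (Fin n) k)) fun i => IsHomogeneous.sum _ _ _ fun j _ => by
    rw [MvPolynomial.smul_eq_C_mul]
    exact (isHomogeneous_X k j).C_mul _
  rw [one_mul] at h2
  exact h2

include hC hX in
theorem decompose_smul (g : G) (p : MvPolynomial (Fin n) k) (i : ℤ) :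
    (decompose (deg k n) (g • p) i : MvPolynomial (Fin n) k) = g • (decompose (deg k n) p i : MvPolynomial (Fin n) k) := by
  induction p using DirectSum.Decomposition.inductionOn (deg k n) with
  | zero => simp
  | @homogeneous m a =>
    rcases eq_or_ne m i with rfl | hne
    · rw [decompose_of_mem_same _ (smul_mem_deg ρ hC hX g a.2), decompose_of_mem_same _ a.2]
    · rw [decompose_of_mem_ne _ (smul_mem_deg ρ hC hX g a.2) hne, decompose_of_mem_ne _ a.2 hne, smul_zero]
  | add a b ha hb => simp only [smul_add, decompose_add, DirectSum.add_apply, Submodule.coe_add, ha, hb]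

include hC hX in
theorem comap_isHomogeneous (g : G) {Q : Ideal (MvPolynomial (Fin n) k)} (hQ : Q.IsHomogeneous (deg k n)) :
    (Q.comap (MulSemiringAction.toRingHom G (MvPolynomial (Fin n) k) g)).IsHomogeneous (deg k n) := fun i x hx => by
  show g • (decompose (deg k n) x i : MvPolynomial (Fin n) k) ∈ Q
  rw [← decompose_smul ρ hC hX]
  exact hQ i hx

include hC hX in
theorem smul_mem_irr (g : G) {p : MvPolynomial (Fin n) k} (hp : p ∈ SegreDim.irr (deg k n)) :
    g • p ∈ SegreDim.irr (deg k n) := by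
  have hle : SegreDim.irr (deg k n) ≤
      (SegreDim.irr (deg k n)).comap (MulSemiringAction.toRingHom G (MvPolynomial (Fin n) k) g) := by
    refine Ideal.span_le.2 fun a ha => ?_
    simp only [Set.mem_iUnion, Set.mem_Ioi, SetLike.mem_coe] at ha
    obtain ⟨m, hm, ha⟩ := ha
    exact SegreDim.mem_irr_of_mem _ hm (smul_mem_deg ρ hC hX g ha)
  exact hle hp

include hC hX in
/-- An invariant homogeneous element avoiding finitely many non-irrelevant homogeneous primes. -/
theorem exists_invariant_avoid [Fintype G] (s : Finset (Ideal (MvPolynomial (Fin n) k)))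
    (hs : ∀ P ∈ s, P.IsPrime ∧ P.IsHomogeneous (deg k n) ∧ ¬ SegreDim.irr (deg k n) ≤ P) :
    ∃ (d : ℕ) (a : MvPolynomial (Fin n) k), 0 < d ∧ a ∈ deg k n (d : ℤ) ∧ (∀ g : G, g • a = a) ∧ ∀ P ∈ s, a ∉ P := by
  classical
  obtain ⟨d, a, hd, ha, hav⟩ := SegreDim.exists_avoid (deg k n) deg_neg
    ((s ×ˢ (Finset.univ : Finset G)).image fun x => x.1.comap (MulSemiringAction.toRingHom G _ x.2)) fun P hP => by
    obtain ⟨⟨Q, g⟩, hQ, rfl⟩ := Finset.mem_image.1 hP
    obtain ⟨hQ1, hQ2, hQ3⟩ := hs Q (Finset.mem_product.1 hQ).1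
    haveI := hQ1
    refine ⟨inferInstance, comap_isHomogeneous ρ hC hX g hQ2, fun hle => hQ3 fun x hx => ?_⟩
    have := hle (smul_mem_irr ρ hC hX g⁻¹ hx)
    simpa [smul_inv_smul] using this
  refine ⟨Fintype.card G * d, ∏ g : G, g • a, Nat.mul_pos Fintype.card_pos hd, ?_, fun h => ?_, fun Q hQ hmem => ?_⟩
  · rw [mem_deg_iff, show Fintype.card G * d = ∑ _g : G, d by simp]
    exact IsHomogeneous.prod _ _ _ fun g _ => mem_deg_iff.1 (smul_mem_deg ρ hC hX g ha)
  · rw [Finset.smul_prod']
    exact Fintype.prod_equiv (Equiv.mulLeft h) _ _ fun g => smul_smul h g a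
  · obtain ⟨g, -, hg⟩ := (hs Q hQ).1.prod_mem_iff.1 hmem
    exact hav _ (Finset.mem_image.2 ⟨(Q, g), Finset.mem_product.2 ⟨hQ, Finset.mem_univ g⟩, rfl⟩) hg

include hC hX in
/-- Invariant homogeneous systems of parameters. -/
theorem exists_invariant_params [Fintype G] :
    ∃ (θ : Fin n → MvPolynomial (Fin n) k) (d : Fin n → ℕ),
      (∀ i, 0 < d i ∧ θ i ∈ deg k n (d i : ℤ)) ∧ (∀ (g : G) i, g • θ i = θ i) ∧
      SegreDim.irr (deg k n) ≤ (Ideal.span (Set.range θ)).radical := by
  classical
  have hne : SegreDim.irr (deg k n) ≠ ⊤ := SegreDim.irr_ne_top _ deg_neg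
  have key : ∀ i : ℕ, ∃ (θ : Fin i → MvPolynomial (Fin n) k) (d : Fin i → ℕ),
      (∀ j, 0 < d j ∧ θ j ∈ deg k n (d j : ℤ)) ∧ (∀ (g : G) j, g • θ j = θ j) ∧
      (SegreDim.irr (deg k n) ≤ (Ideal.span (Set.range θ)).radical ∨
        ringKrullDim (MvPolynomial (Fin n) k ⧸ Ideal.span (Set.range θ)) + (i : ℕ) ≤ (n : ℕ)) := by
    intro i
    induction i with
    | zero =>
      refine ⟨Fin.elim0, Fin.elim0, fun j => j.elim0, fun g j => j.elim0, Or.inr ?_⟩
      rw [Nat.cast_zero, add_zero]
      exact (ringKrullDim_quotient_le _).trans (by simp [MvPolynomial.ringKrullDim_of_isNoetherianRing])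
    | succ i ih =>
      obtain ⟨θ, d, hd, hfix, h⟩ := ih
      set I := Ideal.span (Set.range θ) with hI
      by_cases hrad : SegreDim.irr (deg k n) ≤ I.radical
      · refine ⟨Fin.cons 0 θ, Fin.cons 1 d, Fin.cases ⟨one_pos, zero_mem _⟩ fun j => by simpa using hd j,
          fun g => Fin.cases (by simp) fun j => by simpa using hfix g j, Or.inl (hrad.trans (Ideal.radical_mono
            (Ideal.span_mono ?_)))⟩
        rintro _ ⟨j, rfl⟩
        exact ⟨j.succ, by simp⟩
      have h := h.resolve_left hrad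
      have hhom : I.IsHomogeneous (deg k n) := Ideal.homogeneous_span _ _ (by
        rintro _ ⟨j, rfl⟩; exact ⟨_, (hd j).2⟩)
      obtain ⟨e, a, he, ha, hafix, hav⟩ := exists_invariant_avoid ρ hC hX
        (I.finite_minimalPrimes_of_isNoetherianRing _).toFinset fun P hP => by
          rw [Set.Finite.mem_toFinset] at hP
          refine ⟨hP.1.1, SegreDim.isHomogeneous_minimalPrime _ hhom hP, fun hle' => hrad ?_⟩
          rw [← Ideal.sInf_minimalPrimes, le_sInf_iff]
          intro P' hP'
          have h1 := SegreDim.le_irr_of_isHomogeneous _ deg_neg deg_zero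
            (SegreDim.isHomogeneous_minimalPrime _ hhom hP') hP'.1.1.ne_top
          exact hle'.trans (hP.2 hP'.1 (h1.trans hle'))
      refine ⟨Fin.cons a θ, Fin.cons e d, Fin.cases ⟨he, by simpa using ha⟩ fun j => by simpa using hd j,
        fun g => Fin.cases (by simpa using hafix g) fun j => by simpa using hfix g j, Or.inr ?_⟩
      refine le_trans ?_ h
      rw [Nat.cast_succ, add_comm ((i : ℕ) : WithBot ℕ∞) 1, ← add_assoc]
      gcongr
      refine SegreDim.ringKrullDim_quotient_add_one_le (Ideal.span_mono ?_) fun P hP hJ => ?_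
      · rintro _ ⟨j, rfl⟩; exact ⟨j.succ, by simp⟩
      · exact hav P ((Set.Finite.mem_toFinset _).2 hP) (hJ (Ideal.subset_span ⟨0, by simp⟩))
  obtain ⟨θ, d, hd, hfix, h⟩ := key n
  refine ⟨θ, d, hd, hfix, h.elim id fun h => ?_⟩
  set I := Ideal.span (Set.range θ)
  rw [← Ideal.sInf_minimalPrimes, le_sInf_iff]
  intro P hP
  haveI := hP.1.1
  have hhom : I.IsHomogeneous (deg k n) := Ideal.homogeneous_span _ _ (by
    rintro _ ⟨j, rfl⟩; exact ⟨_, (hd j).2⟩)
  have hPirr := SegreDim.le_irr_of_isHomogeneous _ deg_neg deg_zero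
    (SegreDim.isHomogeneous_minimalPrime _ hhom hP) hP.1.1.ne_top
  haveI : Nontrivial (MvPolynomial (Fin n) k ⧸ I) :=
    Ideal.Quotient.nontrivial_iff.2 fun ht => hP.1.1.ne_top (top_le_iff.1 (ht ▸ hP.1.2))
  have h0 : ringKrullDim (MvPolynomial (Fin n) k ⧸ I) ≤ 0 := by
    revert h
    generalize ringKrullDim (MvPolynomial (Fin n) k ⧸ I) = e
    intro h
    induction e with
    | bot => exact bot_le
    | coe e =>
      induction e with
      | top => exact absurd h (not_le.2 (by rw [← WithBot.coe_natCast, ← WithBot.coe_add, WithBot.coe_lt_coe, top_add]; exact ENat.natCast_lt_top n))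
      | coe e =>
        have : e + n ≤ n := by exact_mod_cast h
        have he : e = 0 := by omega
        simp [he]
  haveI : Ring.KrullDimLE 0 (MvPolynomial (Fin n) k ⧸ I) :=
    (Ring.krullDimLE_iff (n := 0)).2 (by rw [Nat.cast_zero]; exact h0)
  haveI : (P.map (Ideal.Quotient.mk I)).IsPrime :=
    Ideal.map_isPrime_of_surjective Ideal.Quotient.mk_surjective (by rw [Ideal.mk_ker]; exact hP.1.2)
  haveI := Ideal.isMaximal_of_isPrime (P.map (Ideal.Quotient.mk I))
  have hmax : P.IsMaximal := by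
    have := Ideal.comap_isMaximal_of_surjective (Ideal.Quotient.mk I) Ideal.Quotient.mk_surjective
      (K := P.map (Ideal.Quotient.mk I))
    rwa [Ideal.comap_map_of_surjective _ Ideal.Quotient.mk_surjective, ← RingHom.ker_eq_comap_bot,
      Ideal.mk_ker, sup_eq_left.2 hP.1.2] at this
  exact (hmax.eq_of_le hne hPirr).ge

end Groth.Agent.InvGor15
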