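import Groth.Agent.InvGor15.Param

/-! For a group of determinant one and invertible order the generating functional is invariant. -/

set_option autoImplicit false
set_option backward.isDefEq.respectTransparency false
set_option linter.style.haveILetI false

universe u

open MvPolynomial

namespace Groth.Agent.InvGor15

variable {k : Type u} [Field k] {n : ℕ} {G : Type u} [Group G] [Fintype G]
  [MulSemiringAction G (MvPolynomial (Fin n) k)]
  (ρ : G →* Matrix.GeneralLinearGroup (Fin n) k)
  (hC : ∀ (g : G) (c : k), g • (C c : MvPolynomial (Fin n) k) = C c)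
  (hX : ∀ (g : G) (i : Fin n), g • (X i : MvPolynomial (Fin n) k) =
    ∑ j : Fin n, (ρ g : Matrix (Fin n) (Fin n) k) j i • (X j : MvPolynomial (Fin n) k))
  {θ : Fin n → MvPolynomial (Fin n) k}

include hC hX in
/-- An equivariant matrix expressing invariant parameters in the variables. -/
theorem exists_equivariant_matrix (hN : ((Fintype.card G : ℕ) : k) ≠ 0) (hfix : ∀ (g : G) i, g • θ i = θ i)
    (hθ : ∀ i, θ i ∈ Ideal.span (Set.range (X : Fin n → MvPolynomial (Fin n) k))) :
    ∃ M : Matrix (Fin n) (Fin n) (MvPolynomial (Fin n) k), (∀ i, θ i = ∑ j, M i j * X j) ∧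
      ∀ g : G, M.map (fun x => g • x) * ((ρ g : Matrix (Fin n) (Fin n) k).map C).transpose = M := by
  classical
  choose M₀ hM₀ using fun i => (Ideal.mem_span_range_iff_exists_fun).1 (hθ i)
  let T : G → Matrix (Fin n) (Fin n) (MvPolynomial (Fin n) k) := fun g =>
    (Matrix.of M₀).map (fun x => g • x) * ((ρ g : Matrix (Fin n) (Fin n) k).map C).transpose
  have hTθ : ∀ g i, θ i = ∑ j, T g i j * X j := by
    intro g i
    have h1 : g • θ i = ∑ l, g • M₀ i l * g • (X l : MvPolynomial (Fin n) k) := by
      rw [← hM₀ i, Finset.smul_sum]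
      exact Finset.sum_congr rfl fun l _ => smul_mul' g _ _
    rw [hfix] at h1
    rw [h1]
    simp only [T, Matrix.mul_apply, Matrix.map_apply, Matrix.transpose_apply, Matrix.of_apply, Finset.sum_mul, hX,
      MvPolynomial.smul_eq_C_mul, Finset.mul_sum]
    rw [Finset.sum_comm]
    exact Finset.sum_congr rfl fun j _ => Finset.sum_congr rfl fun l _ => by ring
  let c : MvPolynomial (Fin n) k := C ((Fintype.card G : k)⁻¹)
  refine ⟨c • ∑ g : G, T g, fun i => ?_, fun h => ?_⟩
  · simp only [Matrix.smul_apply, Matrix.sum_apply, smul_eq_mul, mul_assoc, Finset.sum_mul, ← Finset.mul_sum]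
    rw [Finset.sum_comm, Finset.sum_congr rfl fun g _ => (hTθ g i).symm, Finset.sum_const, Finset.card_univ,
      nsmul_eq_mul, ← mul_assoc, ← map_natCast (C : k →+* MvPolynomial (Fin n) k), ← map_mul,
      inv_mul_cancel₀ hN, map_one, one_mul]
  · have hmap : ∀ (g : G) (A B : Matrix (Fin n) (Fin n) (MvPolynomial (Fin n) k)),
        (A * B).map (fun x => g • x) = A.map (fun x => g • x) * B.map (fun x => g • x) := fun g A B =>
      Matrix.map_mul (f := MulSemiringAction.toRingHom G (MvPolynomial (Fin n) k) g)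
    have hT : ∀ g, (T g).map (fun x => h • x) * ((ρ h : Matrix (Fin n) (Fin n) k).map C).transpose = T (h * g) := by
      intro g
      simp only [T]
      rw [hmap, Matrix.mul_assoc, Matrix.map_map]
      congr 1
      · ext i j
        simp [Matrix.map_apply, mul_smul]
      · rw [show (((ρ g : Matrix (Fin n) (Fin n) k).map C).transpose).map (fun x => h • x) =
          ((ρ g : Matrix (Fin n) (Fin n) k).map C).transpose by ext i j : 2; simp [hC],
          ← Matrix.transpose_mul, ← Matrix.map_mul, ← Units.val_mul, ← map_mul]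
    rw [show (c • ∑ g : G, T g).map (fun x => h • x) = c • ∑ g : G, (T g).map (fun x => h • x) by
        refine Matrix.ext fun i j => ?_
        simp only [Matrix.map_apply, Matrix.smul_apply, Matrix.sum_apply, smul_eq_mul, smul_mul', Finset.smul_sum, c, hC, Finset.mul_sum],
      Matrix.smul_mul, Finset.sum_mul, Finset.sum_congr rfl fun g _ => hT g]
    congr 1
    exact Fintype.sum_equiv (Equiv.mulLeft h) _ _ fun g => rfl

local notation "SS" => ParRing k n

include hC hX in
/-- The generating functional is invariant. -/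
theorem functional_invariant [Algebra (ParRing k n) (MvPolynomial (Fin n) k)]
    (halg : algebraMap (ParRing k n) (MvPolynomial (Fin n) k) = (parMap θ).toRingHom)
    [SMulCommClass G (ParRing k n) (MvPolynomial (Fin n) k)]
    [Module.Free (ParRing k n) (MvPolynomial (Fin n) k)] [Module.Finite (ParRing k n) (MvPolynomial (Fin n) k)]
    (hN : ((Fintype.card G : ℕ) : k) ≠ 0) (hfix : ∀ (g : G) i, g • θ i = θ i)
    (hθ : ∀ i, θ i ∈ Ideal.span (Set.range (X : Fin n → MvPolynomial (Fin n) k)))
    (hdet : ∀ g : G, Matrix.det (ρ g : Matrix (Fin n) (Fin n) k) = 1)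
    (ω : MvPolynomial (Fin n) k →ₗ[ParRing k n] ParRing k n)
    (hgen : ∀ l : MvPolynomial (Fin n) k →ₗ[ParRing k n] ParRing k n, ∃ p, ∀ x, l x = ω (p * x))
    (hnd : ∀ p, (∀ x, ω (p * x) = 0) → p = 0) (g : G) (x : MvPolynomial (Fin n) k) : ω (g • x) = ω x := by
  classical
  obtain ⟨M, hM, hMeq⟩ := exists_equivariant_matrix ρ hC hX hN hfix hθ
  set I := Ideal.span (Set.range θ) with hI
  haveI := finite_quotient (θ := θ) halg
  let Δ := M.det
  have hΔ : Δ ∉ I := Disc12.det_notMem_span θ (fun _ => 0) M (fun i => by simpa using hM i)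
  have hΔfix : ∀ h : G, h • Δ = Δ := fun h => by
    have h1 := congrArg Matrix.det (hMeq h)
    rw [Matrix.det_mul, Matrix.det_transpose, ← RingHom.mapMatrix_apply, ← RingHom.map_det, hdet, map_one,
      mul_one] at h1
    refine Eq.trans ?_ h1
    exact RingHom.map_det (MulSemiringAction.toRingHom G (MvPolynomial (Fin n) k) h) M
  let 𝔪 := Ideal.span (Set.range (X : ULift.{0} (Fin n) → ParRing k n))
  have hωI : ∀ z ∈ I, ω z ∈ 𝔪 := fun z hz => by
    obtain ⟨w, rfl⟩ := Ideal.mem_span_range_iff_exists_fun.1 hz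
    rw [map_sum]
    refine Ideal.sum_mem _ fun i _ => ?_
    rw [mul_comm, ← algebraMap_X halg i, ← Algebra.smul_def, map_smul, smul_eq_mul]
    exact Ideal.mul_mem_right _ _ (Ideal.subset_span ⟨_, rfl⟩)
  have hsoc : ∀ p : MvPolynomial (Fin n) k, p * Δ - C (constantCoeff p) * Δ ∈ I := fun p => by
    have hp : p - C (constantCoeff p) ∈ Ideal.span (Set.range (X : Fin n → MvPolynomial (Fin n) k)) := by
      rw [← Set.image_univ, MvPolynomial.mem_ideal_span_X_image]
      intro m hm
      by_contra h0
      push_neg at h0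
      obtain rfl : m = 0 := Finsupp.ext fun i => h0 i (Set.mem_univ i)
      simp [constantCoeff_eq] at hm
    rw [← sub_mul]
    obtain ⟨w, hw⟩ := Ideal.mem_span_range_iff_exists_fun.1 hp
    rw [← hw, Finset.sum_mul]
    refine Ideal.sum_mem _ fun j _ => ?_
    rw [mul_assoc, mul_comm (X j) Δ]
    exact Ideal.mul_mem_left _ _ (Disc12.Koszul.det_mul_mem hM j)
  have hωC : ∀ (c : k) (z : MvPolynomial (Fin n) k), ω (C c * z) = C c * ω z := fun c z => by
    rw [← algebraMap_C_apply halg c, ← Algebra.smul_def, map_smul, smul_eq_mul]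
  have hωΔ : ω Δ ∉ 𝔪 := fun hmem => hΔ <| by
    have hall : ∀ l : MvPolynomial (Fin n) k →ₗ[ParRing k n] ParRing k n, l Δ ∈ 𝔪 := fun l => by
      obtain ⟨p, hp⟩ := hgen l
      rw [hp, show p * Δ = (p * Δ - C (constantCoeff p) * Δ) + C (constantCoeff p) * Δ by ring, map_add, hωC]
      exact add_mem (hωI _ (hsoc p)) (Ideal.mul_mem_left _ _ hmem)
    let b := Module.Free.chooseBasis (ParRing k n) (MvPolynomial (Fin n) k)
    rw [← b.sum_repr Δ]
    refine Ideal.sum_mem _ fun i _ => ?_
    rw [Algebra.smul_def]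
    refine Ideal.mul_mem_right _ _ ?_
    have hle : 𝔪 ≤ I.comap (algebraMap (ParRing k n) (MvPolynomial (Fin n) k)) := Ideal.span_le.2 (by
      rintro _ ⟨j, rfl⟩
      show algebraMap (ParRing k n) (MvPolynomial (Fin n) k) (X j) ∈ I
      rw [algebraMap_X halg j.down]
      exact Ideal.subset_span ⟨_, rfl⟩)
    exact hle (hall (b.coord i))
  have htw : ∀ h : G, ∃ p, ∀ y, ω (h • y) = ω (p * y) := fun h => by
    let l : MvPolynomial (Fin n) k →ₗ[ParRing k n] MvPolynomial (Fin n) k :=
      { toFun := fun y => h • y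
        map_add' := fun y z => smul_add h y z
        map_smul' := fun s y => by
          simp only [RingHom.id_apply]
          exact smul_comm h s y }
    exact hgen (ω ∘ₗ l)
  obtain ⟨p, hp⟩ := htw g
  obtain ⟨q, hq⟩ := htw g⁻¹
  have hpu : q * g • p = 1 := sub_eq_zero.1 (hnd _ fun y => by
    have h1 : ω y = ω (q * (g • p * y)) := by
      rw [← hq, smul_mul', inv_smul_smul, ← hp, smul_inv_smul]
    rw [sub_mul, map_sub, one_mul, mul_assoc, ← h1, sub_self])
  have hu : IsUnit p := by
    have h1 : IsUnit (MulSemiringAction.toRingHom G (MvPolynomial (Fin n) k) g⁻¹ (g • p)) :=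
      (IsUnit.of_mul_eq_one_right q hpu).map _
    rwa [show MulSemiringAction.toRingHom G (MvPolynomial (Fin n) k) g⁻¹ (g • p) = g⁻¹ • (g • p) from rfl,
      inv_smul_smul] at h1
  obtain ⟨c, -, rfl⟩ := MvPolynomial.isUnit_iff_eq_C_of_isReduced.1 hu
  have h2 : (C c - 1) * ω Δ = 0 := by
    rw [sub_mul, one_mul, ← hωC, ← hp, hΔfix, sub_self]
  have hc : c = 1 := by
    rcases mul_eq_zero.1 h2 with h3 | h3
    · exact C_injective _ _ (by rw [sub_eq_zero.1 h3, map_one])
    · exact absurd (h3 ▸ zero_mem 𝔪) hωΔ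
  rw [hp, hc, map_one, one_mul]

end Groth.Agent.InvGor15
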