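import Groth.Agent.InvGor15.Grading
import Groth.Agent.Disc12.GCIDual
import Mathlib.RingTheory.Flat.EquationalCriterion
import Mathlib.RingTheory.Filtration

/-! A polynomial ring over homogeneous parameters: finite free, with a generating functional. -/

set_option autoImplicit false
set_option backward.isDefEq.respectTransparency false
set_option linter.style.haveILetI false

universe u

open MvPolynomial DirectSum

namespace Groth.Agent.InvGor15

section gci

variable {A B : Type u} [CommRing A] [CommRing B] [Algebra A B] [Module.Finite A B] {n : ℕ}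

theorem flat_of_gci (f : Fin n → MvPolynomial (Fin n) A)
    (e : (MvPolynomial (Fin n) A ⧸ Ideal.span (Set.range f)) ≃ₐ[A] B) : Module.Flat A B := by
  haveI : Module.Finite A (MvPolynomial (Fin n) A ⧸ Ideal.span (Set.range f)) :=
    Module.Finite.equiv e.symm.toLinearEquiv
  haveI := (Disc12.flat_and_exact_of_quasiFinite f).1
  exact Module.Flat.of_linearEquiv e.symm.toLinearEquiv

theorem generator_of_gci [Module.Free A B] (f : Fin n → MvPolynomial (Fin n) A)
    (e : (MvPolynomial (Fin n) A ⧸ Ideal.span (Set.range f)) ≃ₐ[A] B) :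
    ∃ ω : B →ₗ[A] A, (∀ l : B →ₗ[A] A, ∃ p, ∀ x, l x = ω (p * x)) ∧
      ∀ p, (∀ x, ω (p * x) = 0) → p = 0 := by
  haveI : Module.Finite A (MvPolynomial (Fin n) A ⧸ Ideal.span (Set.range f)) :=
    Module.Finite.equiv e.symm.toLinearEquiv
  haveI : Module.Free A (MvPolynomial (Fin n) A ⧸ Ideal.span (Set.range f)) :=
    Module.Free.of_equiv e.symm.toLinearEquiv
  obtain ⟨e₁, -⟩ := Disc12.exists_equiv f
  refine ⟨(e₁ 1).toLinearMap ∘ₗ e.symm.toLinearMap, fun l => ?_, fun p hp => ?_⟩
  · obtain ⟨b, hb⟩ := e₁.surjective ⟨l ∘ₗ e.toLinearMap⟩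
    refine ⟨e b, fun x => ?_⟩
    have h1 : e₁ b = b • e₁ 1 := by rw [← map_smul, smul_eq_mul, mul_one]
    have h2 := congrArg (fun z => z.toLinearMap (e.symm x)) (h1.symm.trans hb)
    simp only [Disc.Omega.smul_toLinearMap_apply, LinearMap.comp_apply, AlgEquiv.toLinearMap_apply,
      AlgEquiv.apply_symm_apply] at h2
    simp only [LinearMap.comp_apply, AlgEquiv.toLinearMap_apply, map_mul, AlgEquiv.symm_apply_apply]
    exact h2.symm
  · have h0 : e₁ (e.symm p) = 0 := by
      refine Disc.Omega.ext (LinearMap.ext fun y => ?_)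
      rw [show e.symm p = e.symm p • (1 : _) by rw [smul_eq_mul, mul_one], map_smul,
        Disc.Omega.smul_toLinearMap_apply]
      have := hp (e y)
      simp only [LinearMap.comp_apply, AlgEquiv.toLinearMap_apply, map_mul, AlgEquiv.symm_apply_apply] at this
      simpa using this
    rw [← e.apply_symm_apply p, (map_eq_zero_iff e₁ e₁.injective).1 h0, map_zero]

end gci

abbrev ParRing (k : Type u) [Field k] (n : ℕ) : Type u := MvPolynomial (ULift.{0} (Fin n)) k

/-- The structure map given by parameters. -/
noncomputable abbrev parMap {k : Type u} [Field k] {n : ℕ} (θ : Fin n → MvPolynomial (Fin n) k) :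
    ParRing k n →ₐ[k] MvPolynomial (Fin n) k := aeval fun i => θ i.down

variable {k : Type u} [Field k] {n : ℕ} {θ : Fin n → MvPolynomial (Fin n) k} {d : Fin n → ℕ}

set_option hygiene false in
local notation "S" => ParRing k n
set_option hygiene false in
local notation "P" => MvPolynomial (Fin n) k
set_option hygiene false in
local notation "I" => Ideal.span (Set.range θ)

theorem finite_parMap (hd : ∀ i, 0 < d i ∧ θ i ∈ deg k n (d i : ℤ))
    (hrad : SegreDim.irr (deg k n) ≤ (I).radical) : (parMap θ).Finite := by
  have h1 := SegreDim.finite_of_radical (deg k n) deg_neg deg_zero θ d hd hrad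
  have h2 : Function.Surjective (rename ULift.down : S →ₐ[k] P) := fun p =>
    ⟨rename ULift.up p, by rw [rename_rename]; exact rename_id_apply p⟩
  have h3 := h1.comp (AlgHom.Finite.of_surjective _ h2)
  convert h3 using 1
  exact MvPolynomial.algHom_ext fun i => by simp [parMap]

variable [Algebra S P] (halg : algebraMap S P = (parMap θ).toRingHom)

include halg in
theorem algebraMap_X (i : Fin n) : algebraMap S P (X ⟨i⟩) = θ i := by
  rw [halg]; simp [parMap]

include halg in
theorem mk_algebraMap (s : S) :
    Ideal.Quotient.mk I (algebraMap S P s) = Ideal.Quotient.mk I (C (constantCoeff s)) := by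
  have h : (Ideal.Quotient.mk I).comp (algebraMap S P) = (Ideal.Quotient.mk I).comp (C.comp constantCoeff) := by
    refine MvPolynomial.ringHom_ext (fun c => ?_) (fun i => ?_)
    · simp [halg, parMap, MvPolynomial.algebraMap_eq]
    · simp only [RingHom.comp_apply, constantCoeff_X, map_zero, algebraMap_X halg i.down]
      exact Ideal.Quotient.eq_zero_iff_mem.2 (Ideal.subset_span ⟨_, rfl⟩)
  exact RingHom.congr_fun h s

include halg in
theorem algebraMap_C_apply (c : k) : algebraMap S P (C c) = C c := by
  simp [halg, parMap, MvPolynomial.algebraMap_eq]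

include halg in
theorem isScalarTower_param : IsScalarTower k S P :=
  IsScalarTower.of_algebraMap_eq fun c => by
    rw [MvPolynomial.algebraMap_eq, MvPolynomial.algebraMap_eq, algebraMap_C_apply halg]

include halg in
theorem finite_quotient [Module.Finite S P] : Module.Finite k (P ⧸ I) := by
  classical
  obtain ⟨t, ht⟩ := (Module.Finite.fg_top : (⊤ : Submodule S P).FG)
  refine ⟨⟨t.image (Ideal.Quotient.mk I), ?_⟩⟩
  rw [eq_top_iff, Finset.coe_image]
  rintro z -
  obtain ⟨p, rfl⟩ := Ideal.Quotient.mk_surjective z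
  obtain ⟨c, -, hc⟩ := Submodule.mem_span_finset.1 (show p ∈ Submodule.span S (t : Set P) from ht ▸ trivial)
  rw [← hc, map_sum]
  refine Submodule.sum_mem _ fun a ha => ?_
  rw [Algebra.smul_def, map_mul, mk_algebraMap halg, ← map_mul, ← MvPolynomial.smul_eq_C_mul]
  exact Submodule.smul_mem (Submodule.span k _) (constantCoeff (c a))
    (Submodule.subset_span (Set.mem_image_of_mem _ ha))

include halg in
/-- The relations of the presentation. -/
theorem exists_gci : ∃ f : Fin n → MvPolynomial (Fin n) S,
    Nonempty ((MvPolynomial (Fin n) S ⧸ Ideal.span (Set.range f)) ≃ₐ[S] P) := by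
  haveI := isScalarTower_param halg
  let f : Fin n → MvPolynomial (Fin n) S := fun i => MvPolynomial.map (algebraMap k S) (θ i) - C (X ⟨i⟩)
  refine ⟨f, ⟨?_⟩⟩
  let J := Ideal.span (Set.range f)
  have hX : ∀ p : P, aeval (X : Fin n → P) (MvPolynomial.map (algebraMap k S) p) = p := fun p => by
    rw [aeval_map_algebraMap]; exact aeval_X_left_apply p
  have hker : ∀ z ∈ J, aeval (X : Fin n → P) z = (0 : P) := fun z hz => by
    have hle : J ≤ RingHom.ker (aeval (X : Fin n → P) : MvPolynomial (Fin n) S →ₐ[S] P) := Ideal.span_le.2 (by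
      rintro _ ⟨i, rfl⟩
      show aeval (X : Fin n → P) (f i) = 0
      simp only [f, map_sub, hX, aeval_C, algebraMap_X halg, sub_self])
    exact hle hz
  let ψ₀ : P →+* MvPolynomial (Fin n) S ⧸ J := (Ideal.Quotient.mk J).comp (MvPolynomial.map (algebraMap k S))
  have hψ : ψ₀.comp (algebraMap S P) = algebraMap S (MvPolynomial (Fin n) S ⧸ J) := by
    refine MvPolynomial.ringHom_ext (fun c => ?_) (fun i => ?_)
    · simp only [RingHom.comp_apply, algebraMap_C_apply halg, ψ₀, map_C, ← Ideal.Quotient.mk_algebraMap]
      rfl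
    · simp only [RingHom.comp_apply, ψ₀, algebraMap_X halg i.down, ← Ideal.Quotient.mk_algebraMap]
      exact Ideal.Quotient.eq.2 (Ideal.subset_span ⟨i.down, rfl⟩)
  let ψ : P →ₐ[S] MvPolynomial (Fin n) S ⧸ J := { ψ₀ with commutes' := RingHom.congr_fun hψ }
  refine AlgEquiv.ofAlgHom (Ideal.Quotient.liftₐ J (aeval (X : Fin n → P)) hker) ψ ?_ ?_
  · exact AlgHom.ext fun p => hX p
  · refine Ideal.Quotient.algHom_ext S (MvPolynomial.algHom_ext fun i => ?_)
    show Ideal.Quotient.mk J (MvPolynomial.map (algebraMap k S) (aeval (X : Fin n → P) (X i))) = Ideal.Quotient.mk J (X i)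
    rw [aeval_X, map_X]

include halg in
theorem flat_param [Module.Finite S P] : Module.Flat S P := by
  obtain ⟨f, ⟨e⟩⟩ := exists_gci halg
  exact flat_of_gci f e

theorem span_X_ne_top : Ideal.span (Set.range (X : ULift.{0} (Fin n) → S)) ≠ ⊤ := fun h => by
  have h1 : Ideal.span (Set.range (X : ULift.{0} (Fin n) → S)) ≤ RingHom.ker (constantCoeff (R := k)) :=
    Ideal.span_le.2 (by rintro _ ⟨i, rfl⟩; simp)
  exact RingHom.ker_ne_top (constantCoeff : S →+* k) (top_le_iff.1 (h ▸ h1))

theorem mem_span_X_of_constantCoeff {s : S} (h : constantCoeff s = 0) :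
    s ∈ Ideal.span (Set.range (X : ULift.{0} (Fin n) → S)) := by
  rw [← Set.image_univ, MvPolynomial.mem_ideal_span_X_image]
  intro m hm
  by_contra h0
  push_neg at h0
  have hm0 : m = 0 := Finsupp.ext fun i => h0 i (Set.mem_univ i)
  subst hm0
  rw [MvPolynomial.mem_support_iff] at hm
  exact hm h

include halg in
theorem free_param (hd : ∀ i, 0 < d i ∧ θ i ∈ deg k n (d i : ℤ)) [Module.Finite S P] : Module.Free S P := by
  classical
  haveI := finite_quotient halg
  haveI := flat_param halg
  haveI := isScalarTower_param halg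
  haveI : IsNoetherianRing S := inferInstance
  haveI : Module.FinitePresentation S P := Module.finitePresentation_of_finite S P
  haveI := Module.Flat.projective_of_finitePresentation (R := S) (M := P)
  let H : Set P := {x | ∃ m, x ∈ deg k n m}
  have hHtop : Submodule.span k (Ideal.Quotient.mk I '' H) = ⊤ := by
    rw [eq_top_iff]
    rintro x -
    obtain ⟨x, rfl⟩ := Ideal.Quotient.mk_surjective x
    rw [← DirectSum.sum_support_decompose (deg k n) x, map_sum]
    exact Submodule.sum_mem _ fun i _ => Submodule.subset_span ⟨_, ⟨i, (decompose (deg k n) x i).2⟩, rfl⟩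
  obtain ⟨b, hb, hbspan, hbli⟩ := exists_linearIndependent k (Ideal.Quotient.mk I '' H)
  haveI : Fintype b := hbli.setFinite.fintype
  choose g hgH hg using fun z : b => hb z.2
  let e₀ : (b → S) →ₗ[S] P := Fintype.linearCombination S g
  have hsurj : Function.Surjective e₀ := by
    rw [← LinearMap.range_eq_top, Fintype.range_linearCombination, eq_top_iff]
    intro x _
    rw [← DirectSum.sum_support_decompose (deg k n) x]
    refine Submodule.sum_mem _ fun m _ => ?_
    suffices ∀ (N : ℕ) (m : ℤ), m < N → ∀ a ∈ deg k n m, a ∈ Submodule.span S (Set.range g) from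
      this (m.toNat + 1) m (by omega) _ (decompose (deg k n) x m).2
    intro N
    induction N with
    | zero =>
      intro m hm a ha
      rw [SegreDim.eq_zero_of_neg (deg k n) deg_neg (by exact_mod_cast hm) ha]; exact zero_mem _
    | succ N ihN =>
      intro m hm a ha
      have hmem : Ideal.Quotient.mk I a ∈ Submodule.span k (Set.range fun z : b => (z : P ⧸ I)) := by
        rw [Subtype.range_coe, hbspan, hHtop]; trivial
      obtain ⟨c, hc⟩ := (Submodule.mem_span_range_iff_exists_fun k).1 hmem
      have hsub : a - ∑ z : b, c z • g z ∈ I := by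
        rw [← Ideal.Quotient.eq_zero_iff_mem, map_sub, map_sum, sub_eq_zero, ← hc]
        exact Finset.sum_congr rfl fun z _ => by
          rw [← hg z]; exact (map_smul (Ideal.Quotient.mkₐ k I) _ _).symm
      obtain ⟨w, hw⟩ := Ideal.mem_span_range_iff_exists_fun.mp hsub
      have hproj := congrArg (fun z => GradedAlgebra.proj (deg k n) m z) hw
      simp only [map_sum, map_sub, map_smul, GradedAlgebra.proj_apply,
        DirectSum.decompose_of_mem_same (deg k n) ha] at hproj
      rw [eq_comm, sub_eq_iff_eq_add] at hproj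
      rw [hproj]
      refine Submodule.add_mem _ (Submodule.sum_mem _ fun i _ => ?_) (Submodule.sum_mem _ fun z _ => ?_)
      · have e := DirectSum.coe_decompose_mul_add_of_right_mem (deg k n) (i := m - (d i : ℤ)) (a := w i) (hd i).2
        rw [sub_add_cancel] at e
        rw [e, mul_comm, ← algebraMap_X halg i, ← Algebra.smul_def]
        refine Submodule.smul_mem _ _ (ihN _ ?_ _ (decompose (deg k n) (w i) _).2)
        have := (hd i).1
        omega
      · obtain ⟨j, hj⟩ := hgH z
        rw [← IsScalarTower.algebraMap_smul S (c z)]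
        refine Submodule.smul_mem _ _ ?_
        rcases eq_or_ne j m with rfl | hne
        · rw [DirectSum.decompose_of_mem_same (deg k n) hj]; exact Submodule.subset_span ⟨z, rfl⟩
        · rw [DirectSum.decompose_of_mem_ne (deg k n) hj hne]; exact zero_mem _
  have hres : ∀ c : b → S, e₀ c = 0 → ∀ z, constantCoeff (c z) = 0 := by
    intro c hc
    refine Fintype.linearIndependent_iff.1 hbli (fun z => constantCoeff (c z)) ?_
    have h := congrArg (Ideal.Quotient.mk I) hc
    rw [map_zero, Fintype.linearCombination_apply, map_sum] at h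
    refine Eq.trans (Finset.sum_congr rfl fun z _ => ?_) h
    rw [Algebra.smul_def (c z), map_mul, mk_algebraMap halg, ← hg z, ← map_mul, ← MvPolynomial.smul_eq_C_mul]
    exact (map_smul (Ideal.Quotient.mkₐ k I) _ _).symm
  obtain ⟨sec, hsec⟩ := Module.projective_lifting_property e₀ LinearMap.id hsurj
  set 𝔪 := Ideal.span (Set.range (X : ULift.{0} (Fin n) → S)) with h𝔪
  have hpow : ∀ (N : ℕ) (c : b → S), e₀ c = 0 → ∀ z, c z ∈ 𝔪 ^ N := by
    intro N
    induction N with
    | zero => intro c _ z; simp
    | succ N ih =>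
      intro c hc z
      have hexp : c = ∑ w : b, c w • ((Pi.single w (1 : S) : b → S) - sec (e₀ (Pi.single w 1))) := by
        have hsum : (∑ w : b, c w • (Pi.single w (1 : S) : b → S)) = c := by
          funext v; simp [Pi.single_apply, Finset.sum_apply]
        calc c = c - sec (e₀ c) := by rw [hc, map_zero, sub_zero]
          _ = _ := by
            conv_lhs => rw [← hsum]
            simp only [map_sum, map_smul, smul_sub, Finset.sum_sub_distrib]
      rw [hexp, Finset.sum_apply, pow_succ']
      refine Ideal.sum_mem _ fun w _ => ?_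
      rw [Pi.smul_apply, smul_eq_mul]
      refine Ideal.mul_mem_mul (mem_span_X_of_constantCoeff (hres c hc w)) (ih _ ?_ z)
      rw [map_sub, show e₀ (sec (e₀ (Pi.single w 1))) = e₀ (Pi.single w 1) from LinearMap.congr_fun hsec _, sub_self]
  have hinj : Function.Injective e₀ := (injective_iff_map_eq_zero e₀).2 fun c hc => funext fun z => by
    have h : c z ∈ ⨅ N : ℕ, 𝔪 ^ N := Ideal.mem_iInf.2 fun N => hpow N c hc z
    rwa [Ideal.iInf_pow_eq_bot_of_isDomain 𝔪 span_X_ne_top, Ideal.mem_bot] at h
  exact Module.Free.of_equiv (LinearEquiv.ofBijective e₀ ⟨hinj, hsurj⟩)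

include halg in
/-- Self duality over the parameters. -/
theorem exists_generator [Module.Finite S P] [Module.Free S P] :
    ∃ ω : P →ₗ[S] S, (∀ l : P →ₗ[S] S, ∃ p, ∀ x, l x = ω (p * x)) ∧
      ∀ p, (∀ x, ω (p * x) = 0) → p = 0 := by
  obtain ⟨f, ⟨e⟩⟩ := exists_gci halg
  exact generator_of_gci f e

end Groth.Agent.InvGor15
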